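import Cfsg.Agent.Lib.Char.CliffordCorrespondence
import Cfsg.Agent.Lib.Char.CliffordGallagher
import Cfsg.Agent.Lib.Clifford.CyclicQuotient

/-!
# Fully ramified characters

`χ ∈ Irr H` with `χ|_Z = e θ`, `e² = [H : Z]`. For every `Z ≤ X ≤ H` the multiplicities in `χ|_X`
are governed by the multiplicities `mult η = ⟨η|_Z, θ⟩`.
-/

set_option autoImplicit false
set_option linter.style.haveILetI false
set_option linter.unusedSectionVars false

namespace Cfsg.Agent.FullyRam

open Cfsg
open scoped ComplexConjugate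

universe u

/-- `χ` is fully ramified over `θ ∈ Irr Z`. -/
structure Data {H : Type u} [Group H] (Z : Subgroup H) (χ : IrrCharacter H) (θ : IrrCharacter Z)
    (e : ℕ) : Prop where
  sq : e ^ 2 = Z.index
  res : ∀ z : Z, χ.1 z = (e : ℂ) * θ.1 z

variable {H : Type u} [Group H] [Fintype H] {Z : Subgroup H} [Z.Normal] [Fintype Z]
  {χ : IrrCharacter H} {θ : IrrCharacter Z} {e : ℕ}

theorem Data.e_ne_zero (d : Data Z χ θ e) : (e : ℂ) ≠ 0 := by
  refine Nat.cast_ne_zero.2 fun h => ?_
  have := d.sq
  rw [h] at this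
  exact Subgroup.index_ne_zero_of_finite this.symm

theorem Data.eq_zero (d : Data Z χ θ e) {g : H} (hg : g ∉ Z) : χ.1 g = 0 := by
  classical
  have hsum : ∀ {G : Type u} [Group G] [Fintype G] (ψ : IrrCharacter G),
      ∑ x : G, Complex.normSq (ψ.1 x) = (Nat.card G : ℝ) := fun {G} _ _ ψ => by
    have h := Char.classInner_irr_self ψ.2
    rw [classInner, inv_mul_eq_one₀ Char.card_ne_zero] at h
    simp only [Complex.mul_conj, ← Complex.ofReal_sum] at h
    exact_mod_cast h.symm
  have hH := hsum χ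
  rw [← Finset.sum_filter_add_sum_filter_not Finset.univ (fun x => x ∈ Z)] at hH
  have hZ : ∑ x ∈ Finset.univ.filter (fun x => x ∈ Z), Complex.normSq (χ.1 x) =
      (Nat.card H : ℝ) := by
    rw [Finset.sum_subtype (Finset.univ.filter (fun x => x ∈ Z)) (p := fun x => x ∈ Z) (F := inferInstanceAs (Fintype Z))
      (fun x => by simp) (fun x => Complex.normSq (χ.1 x))]
    have hθ : ∑ x : Z, Complex.normSq (θ.1 x) = (Nat.card Z : ℝ) := hsum θ
    simp only [d.res, map_mul, Complex.normSq_natCast, ← Finset.mul_sum, hθ]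
    rw [← Z.card_mul_index, ← d.sq]
    push_cast
    ring
  rw [hZ, add_eq_left] at hH
  exact Complex.normSq_eq_zero.1 ((Finset.sum_eq_zero_iff_of_nonneg fun x _ =>
    Complex.normSq_nonneg _).1 hH g (by simp [hg]))

theorem Data.conjFun_eq (d : Data Z χ θ e) (g : H) : Char.conjFun Z θ.1 g = θ.1 :=
  funext fun n => mul_left_cancel₀ d.e_ne_zero (by
    show (e : ℂ) * θ.1 (MulAut.conjNormal g n) = (e : ℂ) * θ.1 n
    rw [← d.res, ← d.res, MulAut.conjNormal_apply]
    exact Char.IsCharacter.isClassFunction (Char.irr_isCharacter χ) (n : H) g)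

section Mult

variable {X : Subgroup H} (hX : Z ≤ X)

/-- The multiplicity of `θ` in `η|_Z`. -/
noncomputable def mult (θ : IrrCharacter Z) (η : IrrCharacter X) : ℕ :=
  (Char.exists_nat_classInner_resIncl Z hX θ η).choose

theorem mult_spec (η : IrrCharacter X) :
    classInner (Char.resIncl Z hX η.1) θ.1 = (mult hX θ η : ℂ) :=
  (Char.exists_nat_classInner_resIncl Z hX θ η).choose_spec

theorem mult_eq_of_res {η : IrrCharacter X} {b : ℕ}
    (h : ∀ z : Z, η.1 (Subgroup.inclusion hX z) = b * θ.1 z) : mult hX θ η = b := by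
  have h1 := mult_spec hX (θ := θ) η
  rw [show Char.resIncl Z hX η.1 = (b : ℂ) • θ.1 from funext h, Char.classInner_smul_left,
    Char.classInner_irr_self θ.2, mul_one] at h1
  exact_mod_cast h1.symm

variable [Fintype X]

theorem Data.res_of_mult (d : Data Z χ θ e) {η : IrrCharacter X} (h : mult hX θ η ≠ 0) (z : Z) :
    η.1 (Subgroup.inclusion hX z) = mult hX θ η * θ.1 z := by
  have hne : classInner (Char.resIncl Z hX η.1) θ.1 ≠ 0 := by
    rw [mult_spec]
    exact Nat.cast_ne_zero.2 h
  have := congrFun (Char.resIncl_eq_smul_of_invariant Z hX θ (fun g _ => d.conjFun_eq g) η hne) z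
  rw [Pi.smul_apply, mult_spec] at this
  exact this

theorem Data.mult_mul_apply_one (d : Data Z χ θ e) (η : IrrCharacter X) :
    (mult hX θ η : ℂ) * η.1 1 = (mult hX θ η : ℂ) * (mult hX θ η * θ.1 1) := by
  rcases eq_or_ne (mult hX θ η) 0 with h | h
  · simp [h]
  · rw [← d.res_of_mult hX h 1, map_one]

/-- Inner products against `χ` only see `Z`. -/
theorem Data.relIndex_mul_classInner (d : Data Z χ θ e) (η : IrrCharacter X) :
    (Z.relIndex X : ℂ) * classInner (Char.resFun X χ.1) η.1 = (e : ℂ) * mult hX θ η := by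
  classical
  have hc : Nat.card Z * Z.relIndex X = Nat.card X := by
    rw [Subgroup.relIndex, ← Nat.card_congr (Subgroup.subgroupOfEquivOfLe hX).toEquiv,
      Subgroup.card_mul_index]
  have h0 := mult_spec hX (θ := θ) η
  rw [← Char.conj_classInner] at h0
  replace h0 := congrArg conj h0
  rw [Complex.conj_conj, Complex.conj_natCast, classInner] at h0
  have hs : ∑ x : X, Char.resFun X χ.1 x * conj (η.1 x) =
      ∑ z : Z, χ.1 z * conj (η.1 (Subgroup.inclusion hX z)) :=
    (Fintype.sum_of_injective (Subgroup.inclusion hX) (Subgroup.inclusion_injective hX) _ _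
      (fun x hx => by
        rw [Char.resFun_apply, d.eq_zero (fun hz => hx ⟨⟨x, hz⟩, Subtype.ext rfl⟩), zero_mul])
      (fun z => rfl)).symm
  rw [classInner, hs]
  simp only [d.res, mul_assoc, ← Finset.mul_sum]
  rw [← h0, ← hc]
  have hZ : (Nat.card Z : ℂ) ≠ 0 := Char.card_ne_zero
  have hr : (Z.relIndex X : ℂ) ≠ 0 :=
    Nat.cast_ne_zero.2 fun h => Nat.card_pos.ne' (hc.symm.trans (by rw [h, mul_zero]))
  push_cast
  simp only [Char.resIncl_apply]
  field_simp

theorem Data.classInner_ne_zero_iff (d : Data Z χ θ e) (η : IrrCharacter X) :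
    classInner (Char.resFun X χ.1) η.1 ≠ 0 ↔ mult hX θ η ≠ 0 := by
  have h := d.relIndex_mul_classInner hX η
  constructor
  · intro hne h0
    rw [h0, Nat.cast_zero, mul_zero, mul_eq_zero] at h
    exact h.elim (Nat.cast_ne_zero.2 (fun h => Subgroup.index_ne_zero_of_finite h)) hne
  · intro hne h0
    rw [h0, mul_zero] at h
    exact mul_ne_zero d.e_ne_zero (Nat.cast_ne_zero.2 hne) h.symm

theorem Data.sum_sq (d : Data Z χ θ e) :
    ∑ η : IrrCharacter X, mult hX θ η ^ 2 = Z.relIndex X := by
  classical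
  have h := congrFun (Char.eq_sum_classInner_smul (Char.IsCharacter.isClassFunction
    (Char.IsCharacter.restrict (Char.irr_isCharacter χ) X) : IsClassFunction X (Char.resFun X χ.1))) 1
  rw [Finset.sum_apply] at h
  simp only [Pi.smul_apply, smul_eq_mul, Char.resFun_apply, Subgroup.coe_one] at h
  replace h := congrArg (fun w => (Z.relIndex X : ℂ) * w) h
  simp only [Finset.mul_sum, ← mul_assoc] at h
  rw [show χ.1 1 = (e : ℂ) * θ.1 1 from d.res 1,
    Finset.sum_congr rfl fun η _ => show _ = (e : ℂ) * θ.1 1 * ((mult hX θ η ^ 2 : ℕ) : ℂ) by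
      rw [d.relIndex_mul_classInner hX η, mul_assoc, d.mult_mul_apply_one hX η]
      push_cast
      ring,
    ← Finset.mul_sum, ← Nat.cast_sum] at h
  have hne : (e : ℂ) * θ.1 1 ≠ 0 :=
    mul_ne_zero d.e_ne_zero (Char.IsIrrCharacter.apply_one_ne_zero θ.2)
  rw [mul_comm (Z.relIndex X : ℂ)] at h
  exact_mod_cast (mul_left_cancel₀ hne h).symm

end Mult

section Pair

variable {X Y : Subgroup H} [Fintype X] [Fintype Y] (hY : Z ≤ Y) (hYX : Y ≤ X)

/-- The multiplicity of `η` in `φ|_Y`. -/
noncomputable def pairMult (φ : IrrCharacter X) (η : IrrCharacter Y) : ℕ :=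
  (Char.IsCharacter.exists_nat_classInner
    (Char.IsCharacter.comp (Char.irr_isCharacter φ) (Subgroup.inclusion hYX))
    (Char.irr_isCharacter η)).choose

theorem pairMult_spec (φ : IrrCharacter X) (η : IrrCharacter Y) :
    classInner (fun y : Y => φ.1 (Subgroup.inclusion hYX y)) η.1 = (pairMult hYX φ η : ℂ) :=
  (Char.IsCharacter.exists_nat_classInner
    (Char.IsCharacter.comp (Char.irr_isCharacter φ) (Subgroup.inclusion hYX))
    (Char.irr_isCharacter η)).choose_spec

theorem res_eq_sum_pairMult (φ : IrrCharacter X) (y : Y) :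
    φ.1 (Subgroup.inclusion hYX y) = ∑ η : IrrCharacter Y, (pairMult hYX φ η : ℂ) * η.1 y := by
  have h := congrFun (Char.eq_sum_classInner_smul (Char.IsCharacter.isClassFunction
    (Char.IsCharacter.comp (Char.irr_isCharacter φ) (Subgroup.inclusion hYX)))) y
  rw [Finset.sum_apply] at h
  simp only [Pi.smul_apply, smul_eq_mul] at h
  refine h.trans (Finset.sum_congr rfl fun η _ => ?_)
  rw [pairMult_spec]

theorem mult_eq_sum (φ : IrrCharacter X) :
    mult (hY.trans hYX) θ φ = ∑ η : IrrCharacter Y, pairMult hYX φ η * mult hY θ η := by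
  have h := mult_spec (hY.trans hYX) (θ := θ) φ
  rw [show Char.resIncl Z (hY.trans hYX) φ.1 =
      ∑ η : IrrCharacter Y, (pairMult hYX φ η : ℂ) • Char.resIncl Z hY η.1 from funext fun z => by
        rw [Finset.sum_apply]
        exact res_eq_sum_pairMult hYX φ (Subgroup.inclusion hY z),
    Char.classInner_sum_left] at h
  rw [Finset.sum_congr rfl fun η _ => by rw [Char.classInner_smul_left, mult_spec]] at h
  exact_mod_cast h.symm

theorem Data.sum_mult (d : Data Z χ θ e) (η : IrrCharacter Y) :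
    ∑ φ : IrrCharacter X, mult (hY.trans hYX) θ φ * pairMult hYX φ η =
      Y.relIndex X * mult hY θ η := by
  have hc : IsClassFunction X (Char.resFun X χ.1) :=
    Char.IsCharacter.isClassFunction (Char.IsCharacter.restrict (Char.irr_isCharacter χ) X)
  have h : classInner (Char.resFun Y χ.1) η.1 = ∑ φ : IrrCharacter X,
      classInner (Char.resFun X χ.1) φ.1 * (pairMult hYX φ η : ℂ) := by
    rw [show Char.resFun Y χ.1 = ∑ φ : IrrCharacter X, classInner (Char.resFun X χ.1) φ.1 •
        fun y : Y => φ.1 (Subgroup.inclusion hYX y) from funext fun y => by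
        rw [Finset.sum_apply]
        have := congrFun (Char.eq_sum_classInner_smul hc) (Subgroup.inclusion hYX y)
        rw [Finset.sum_apply] at this
        exact this, Char.classInner_sum_left]
    exact Finset.sum_congr rfl fun φ _ => by rw [Char.classInner_smul_left, pairMult_spec]
  have hrel : Z.relIndex Y * Y.relIndex X = Z.relIndex X := Subgroup.relIndex_mul_relIndex _ _ _ hY hYX
  replace h := congrArg (fun w => (Z.relIndex X : ℂ) * w) h
  simp only [Finset.mul_sum, ← mul_assoc] at h
  rw [Finset.sum_congr rfl fun φ _ => by rw [d.relIndex_mul_classInner (hY.trans hYX) φ, mul_assoc],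
    ← Finset.mul_sum, ← hrel, Nat.cast_mul, mul_comm (Z.relIndex Y : ℂ), mul_assoc,
    d.relIndex_mul_classInner hY η, mul_left_comm] at h
  exact_mod_cast (mul_left_cancel₀ d.e_ne_zero h).symm

end Pair

/-- An invariant character extends across a cyclic quotient. -/
theorem exists_ext_cyclic {H : Type u} [Group H] [Finite H] (N : Subgroup H) [N.Normal]
    {X : Subgroup H} (hNX : N ≤ X) (φ : IrrCharacter N)
    (hinv : ∀ g ∈ X, Char.conjFun N φ.1 g = φ.1)
    (hcyc : IsCyclic (X.map (QuotientGroup.mk' N))) :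
    ∃ ξ : IrrCharacter X, ∀ n : N, ξ.1 (Subgroup.inclusion hNX n) = φ.1 n := by
  obtain ⟨m, σ, hσ, hσχ⟩ := (Char.toSubgroupOf N hNX φ).2
  haveI := hσ
  haveI : IsCyclic (X ⧸ N.subgroupOf X) := by
    let f : X →* X.map (QuotientGroup.mk' N) :=
      ((QuotientGroup.mk' N).comp X.subtype).codRestrict _ fun x => Subgroup.mem_map_of_mem _ x.2
    have hker : f.ker = N.subgroupOf X := by
      ext x
      rw [MonoidHom.mem_ker, Subgroup.mem_subgroupOf, Subtype.ext_iff]
      exact QuotientGroup.eq_one_iff (x : H)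
    have hf : Function.Surjective f := by
      rintro ⟨_, x, hx, rfl⟩
      exact ⟨⟨x, hx⟩, rfl⟩
    exact ((QuotientGroup.quotientMulEquivOfEq hker.symm).trans
      (QuotientGroup.quotientKerEquivOfSurjective f hf)).isCyclic.2 hcyc
  obtain ⟨ρ, hρ⟩ := Clifford.exists_extension_of_cyclic σ fun g n => by
    rw [hσχ]
    exact congrFun ((Char.conjFun_toSubgroupOf_iff N hNX φ g).2 (hinv g g.2)) n
  refine ⟨⟨ρ.character, Char.isIrrCharacter_character ρ
    (Clifford.isIrreducible_of_restrict σ ρ hρ)⟩, fun n => ?_⟩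
  show ρ.character ((⟨⟨n, hNX n.2⟩, n.2⟩ : N.subgroupOf X) : X) = _
  rw [Representation.character, hρ]
  exact congrFun hσχ _

end Cfsg.Agent.FullyRam
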