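import Cfsg.Agent.Lib.FullyRam.Basic
import Mathlib.GroupTheory.Sylow

/-!
# `p`-complements below fully ramified characters

For `Z ≤ K ⊴ H` and `φ` a constituent of `χ|_K`: if `p` does not divide `[I : K]`, `I` the inertia
group of `φ`, then `H/K` has a `p`-complement.
-/

set_option autoImplicit false
set_option linter.style.haveILetI false
set_option linter.unusedSectionVars false

namespace Cfsg.Agent.FullyRam

open Cfsg
open scoped ComplexConjugate

universe u

theorem dvd_sum_of_perm {α : Type*} [Finite α] (s : Finset α) {p : ℕ} [Fact p.Prime] (f : α → α)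
    (hf : ∀ a ∈ s, f a ∈ s) (hfp : ∀ a ∈ s, f^[p] a = a) (hfix : ∀ a ∈ s, f a ≠ a) (w : α → ℕ)
    (hw : ∀ a ∈ s, w (f a) = w a) : p ∣ ∑ a ∈ s, w a := by
  classical
  have hp : 1 ≤ p := (Fact.out : p.Prime).one_lt.le
  rw [← Finset.sum_fiberwise_of_maps_to (t := s.image w)
    (fun a ha => Finset.mem_image_of_mem w ha)]
  refine Finset.dvd_sum fun v _ => ?_
  rw [Finset.sum_congr rfl fun a ha => (Finset.mem_filter.1 ha).2, Finset.sum_const, smul_eq_mul]
  refine Dvd.dvd.mul_right ?_ v
  set t := s.filter fun a => w a = v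
  have ht : ∀ a ∈ t, f a ∈ t := fun a ha => by
    rw [Finset.mem_filter] at ha ⊢
    exact ⟨hf a ha.1, (hw a ha.1).trans ha.2⟩
  have hit : ∀ j, ∀ a ∈ t, f^[j] a ∈ t := fun j => by
    induction j with
    | zero => exact fun a ha => ha
    | succ k ih =>
      intro a ha
      rw [Function.iterate_succ_apply']
      exact ht _ (ih a ha)
  let σ : Equiv.Perm t :=
    { toFun := fun a => ⟨f a, ht _ a.2⟩
      invFun := fun a => ⟨f^[p - 1] a, hit _ _ a.2⟩
      left_inv := fun a => Subtype.ext (by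
        show f^[p - 1] (f a) = a
        rw [← Function.iterate_succ_apply, Nat.succ_eq_add_one, Nat.sub_add_cancel hp]
        exact hfp _ (Finset.mem_filter.1 a.2).1)
      right_inv := fun a => Subtype.ext (by
        show f (f^[p - 1] a) = a
        rw [← Function.iterate_succ_apply' f, Nat.succ_eq_add_one, Nat.sub_add_cancel hp]
        exact hfp _ (Finset.mem_filter.1 a.2).1) }
  have hσp : σ ^ p ^ 1 = 1 := by
    refine Equiv.ext fun a => Subtype.ext ?_
    have : ∀ j, (((σ ^ j : Equiv.Perm t) a : t) : α) = f^[j] a := fun j => by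
      induction j with
      | zero => rfl
      | succ k ih =>
        rw [pow_succ', Equiv.Perm.mul_apply, Function.iterate_succ_apply', ← ih]
        rfl
    rw [pow_one, this]
    exact hfp _ (Finset.mem_filter.1 a.2).1
  by_contra hnd
  obtain ⟨a, ha⟩ := Equiv.Perm.exists_fixed_point_of_prime (p := p) (n := 1) (α := t)
    (by rwa [Fintype.card_coe]) hσp
  exact hfix _ (Finset.mem_filter.1 a.2).1 (congrArg Subtype.val ha)

variable {H : Type u} [Group H] [Fintype H] {Z : Subgroup H} [Z.Normal] [Fintype Z]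
  {χ : IrrCharacter H} {θ : IrrCharacter Z} {e : ℕ}

theorem card_eq_relIndex_mul {G : Type*} [Group G] {A B : Subgroup G} (h : A ≤ B) :
    Nat.card B = A.relIndex B * Nat.card A := by
  rw [Subgroup.relIndex, ← Nat.card_congr (Subgroup.subgroupOfEquivOfLe h).toEquiv, mul_comm,
    Subgroup.card_mul_index]

section Normal

variable (K : Subgroup H) [K.Normal] [Fintype K] (hZK : Z ≤ K) {φ : IrrCharacter K}

theorem Data.mult_conjChar (d : Data Z χ θ e) (η : IrrCharacter K) (g : H) :
    mult hZK θ (Char.conjChar K η g) = mult hZK θ η := by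
  have h1 := mult_spec hZK (θ := θ) (Char.conjChar K η g)
  rw [show Char.resIncl Z hZK (Char.conjChar K η g).1 = Char.conjFun Z (Char.resIncl Z hZK η.1) g
      from funext fun z => congrArg η.1 (Subtype.ext rfl),
    ← d.conjFun_eq g, Char.classInner_conjFun, mult_spec] at h1
  exact_mod_cast h1.symm

theorem Data.mem_orbit_of_mult (d : Data Z χ θ e) (hφ : classInner (Char.resFun K χ.1) φ.1 ≠ 0)
    {η : IrrCharacter K} (h : mult hZK θ η ≠ 0) : η ∈ Char.orbitFinset K φ :=
  (Char.mem_orbitFinset K).2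
    (Char.exists_conjChar_of_constituents K χ φ η hφ ((d.classInner_ne_zero_iff hZK η).2 h))

theorem Data.mult_of_mem_orbit (d : Data Z χ θ e) {η : IrrCharacter K}
    (h : η ∈ Char.orbitFinset K φ) : mult hZK θ η = mult hZK θ φ := by
  obtain ⟨g, rfl⟩ := (Char.mem_orbitFinset K).1 h
  exact d.mult_conjChar K hZK φ g

theorem Data.relIndex_eq (d : Data Z χ θ e) (hφ : classInner (Char.resFun K χ.1) φ.1 ≠ 0) :
    Z.relIndex K = (Char.inertia K φ.1).index * mult hZK θ φ ^ 2 := by
  classical
  rw [← d.sum_sq hZK, Char.index_inertia, ← Finset.sum_subset (Finset.subset_univ (Char.orbitFinset K φ))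
    fun η _ hη => by
      rw [Nat.pow_eq_zero]
      exact ⟨not_not.1 fun h => hη (d.mem_orbit_of_mult K hZK hφ h), two_ne_zero⟩,
    Finset.sum_congr rfl fun η hη => by rw [d.mult_of_mem_orbit K hZK hη], Finset.sum_const,
    smul_eq_mul]

/-- `χ|_K = M · orbit` with `M² = [I : K]`. -/
theorem Data.exists_sq_eq_relIndex (d : Data Z χ θ e)
    (hφ : classInner (Char.resFun K χ.1) φ.1 ≠ 0) :
    ∃ M : ℕ, classInner (Char.resFun K χ.1) φ.1 = (M : ℂ) ∧
      M ^ 2 = K.relIndex (Char.inertia K φ.1) ∧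
      e = M * (Char.inertia K φ.1).index * mult hZK θ φ := by
  obtain ⟨M, hM⟩ := Char.IsCharacter.exists_nat_classInner
    (Char.IsCharacter.restrict (Char.irr_isCharacter χ) K) (Char.irr_isCharacter φ)
  have hM' : classInner (Char.resFun K χ.1) φ.1 = (M : ℂ) := hM
  have hf : mult hZK θ φ ≠ 0 := (d.classInner_ne_zero_iff hZK φ).1 hφ
  have h1 := Char.apply_one_eq_mul_card_orbit K χ φ hφ
  rw [hM', ← Char.index_inertia,
    show φ.1 1 = mult hZK θ φ * θ.1 1 from by rw [← d.res_of_mult hZK hf 1, map_one],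
    show χ.1 1 = (e : ℂ) * θ.1 1 from d.res 1, ← mul_assoc, ← mul_assoc] at h1
  have he : e = M * (Char.inertia K φ.1).index * mult hZK θ φ := by
    exact_mod_cast mul_right_cancel₀ (Char.IsIrrCharacter.apply_one_ne_zero θ.2) h1
  refine ⟨M, hM', ?_, he⟩
  have h2 := d.sq
  rw [← Subgroup.relIndex_mul_index hZK, d.relIndex_eq K hZK hφ,
    ← Subgroup.relIndex_mul_index (Char.irr_le_inertia K φ), he] at h2
  have hi : 0 < (Char.inertia K φ.1).index := Nat.pos_of_ne_zero Subgroup.index_ne_zero_of_finite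
  refine mul_right_cancel₀ (b := (Char.inertia K φ.1).index * (Char.inertia K φ.1).index *
    mult hZK θ φ ^ 2) (mul_ne_zero (mul_ne_zero hi.ne' hi.ne') (pow_ne_zero _ hf)) ?_
  linear_combination h2

include hZK in
/-- A cyclic Sylow `p`-subgroup of `H/K` forces `p ∤ [I : K]`. -/
theorem Data.not_dvd_relIndex_of_cyclic (d : Data Z χ θ e)
    (hφ : classInner (Char.resFun K χ.1) φ.1 ≠ 0) (p : ℕ) [Fact p.Prime]
    (P : Sylow p (H ⧸ K)) (hcyc : IsCyclic P) : ¬ p ∣ K.relIndex (Char.inertia K φ.1) := by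
  classical
  set I := Char.inertia K φ.1 with hIdef
  have hKI : K ≤ I := Char.irr_le_inertia K φ
  obtain ⟨M, hM, hMsq, he⟩ := d.exists_sq_eq_relIndex K hZK hφ
  set Ib := I.map (QuotientGroup.mk' K) with hIb
  have hcardIb : Nat.card Ib = K.relIndex I := by
    rw [Subgroup.relIndex, Subgroup.index_eq_card]
    refine (Nat.card_congr ?_).symm
    let g : I →* Ib := ((QuotientGroup.mk' K).comp I.subtype).codRestrict _
      fun x => Subgroup.mem_map_of_mem _ x.2
    have hg : Function.Surjective g := by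
      rintro ⟨_, x, hx, rfl⟩
      exact ⟨⟨x, hx⟩, rfl⟩
    have hker : g.ker = K.subgroupOf I := by
      ext x
      rw [MonoidHom.mem_ker, Subgroup.mem_subgroupOf, Subtype.ext_iff]
      exact QuotientGroup.eq_one_iff (x : H)
    exact ((QuotientGroup.quotientMulEquivOfEq hker.symm).trans
      (QuotientGroup.quotientKerEquivOfSurjective g hg)).toEquiv
  intro hdvd
  obtain ⟨Q⟩ : Nonempty (Sylow p Ib) := inferInstance
  set Qb : Subgroup (H ⧸ K) := (Q : Subgroup Ib).map Ib.subtype
  have hQb : IsPGroup p Qb := Q.isPGroup'.map _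
  obtain ⟨P', hP'⟩ := hQb.exists_le_sylow
  haveI hQc : IsCyclic Qb := by
    haveI : IsCyclic P' := (MulEquiv.isCyclic (Sylow.equiv P P')).1 hcyc
    exact isCyclic_of_injective (Subgroup.inclusion hP') (Subgroup.inclusion_injective hP')
  have hcardQ : Nat.card Qb = p ^ (K.relIndex I).factorization p := by
    rw [Subgroup.card_map_of_injective Ib.subtype_injective, Q.card_eq_multiplicity, hcardIb]
  set X := Qb.comap (QuotientGroup.mk' K) with hXdef
  haveI := Fintype.ofFinite X
  have hKX : K ≤ X := fun k hk => by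
    show (k : H ⧸ K) ∈ Qb
    rw [(QuotientGroup.eq_one_iff k).2 hk]
    exact one_mem _
  have hXI : X ≤ I := fun x hx => by
    have h1 : (x : H ⧸ K) ∈ Ib := Subgroup.map_subtype_le _ hx
    obtain ⟨y, hy, hyx⟩ := h1
    have h2 := mul_mem hy (hKI (QuotientGroup.eq.1 hyx))
    rwa [mul_inv_cancel_left] at h2
  have hmap : X.map (QuotientGroup.mk' K) = Qb :=
    Subgroup.map_comap_eq_self_of_surjective (QuotientGroup.mk'_surjective K) Qb
  obtain ⟨ξ, hξ⟩ := exists_ext_cyclic K hKX φ (fun g hg => hXI hg) (by rw [hmap]; exact hQc)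
  have hKXi : K.relIndex X = p ^ (K.relIndex I).factorization p := by
    rw [← hcardQ, Subgroup.relIndex, Subgroup.index_eq_card]
    refine Nat.card_congr ?_
    let g : X →* Qb := ((QuotientGroup.mk' K).comp X.subtype).codRestrict _ fun x => x.2
    have hg : Function.Surjective g := by
      rintro ⟨q, hq⟩
      obtain ⟨x, rfl⟩ := QuotientGroup.mk_surjective q
      exact ⟨⟨x, hq⟩, rfl⟩
    have hker : g.ker = K.subgroupOf X := by
      ext x
      rw [MonoidHom.mem_ker, Subgroup.mem_subgroupOf, Subtype.ext_iff]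
      exact QuotientGroup.eq_one_iff (x : H)
    exact ((QuotientGroup.quotientMulEquivOfEq hker.symm).trans
      (QuotientGroup.quotientKerEquivOfSurjective g hg)).toEquiv
  obtain ⟨a, ha⟩ := Char.IsCharacter.exists_nat_classInner
    (Char.IsCharacter.restrict (Char.irr_isCharacter χ) X) (Char.irr_isCharacter ξ)
  have ha' : classInner (Char.resFun X χ.1) ξ.1 = (a : ℂ) := ha
  have hmξ : mult (hZK.trans hKX) θ ξ = mult hZK θ φ := by
    have h1 := mult_spec (hZK.trans hKX) (θ := θ) ξ
    rw [show Char.resIncl Z (hZK.trans hKX) ξ.1 = Char.resIncl Z hZK φ.1 from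
      funext fun z => hξ (Subgroup.inclusion hZK z), mult_spec] at h1
    exact_mod_cast h1.symm
  have h1 := d.relIndex_mul_classInner (hZK.trans hKX) ξ
  rw [hmξ, ha', ← Subgroup.relIndex_mul_relIndex Z K X hZK hKX, d.relIndex_eq K hZK hφ, hKXi,
    he] at h1
  have h2 : I.index * mult hZK θ φ ^ 2 * p ^ (K.relIndex I).factorization p * a =
      M * I.index * mult hZK θ φ * mult hZK θ φ := by exact_mod_cast h1
  have hne : I.index * mult hZK θ φ ^ 2 ≠ 0 :=
    mul_ne_zero Subgroup.index_ne_zero_of_finite (pow_ne_zero _ ((d.classInner_ne_zero_iff hZK φ).1 hφ))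
  have hMa : p ^ (K.relIndex I).factorization p * a = M := mul_left_cancel₀ hne (by linarith [h2])
  have hI0 : K.relIndex I ≠ 0 := Subgroup.index_ne_zero_of_finite
  have hpos := (Fact.out : p.Prime).factorization_pos_of_dvd hI0 hdvd
  have hdd : p ^ (2 * (K.relIndex I).factorization p) ∣ K.relIndex I := by
    refine ⟨a ^ 2, ?_⟩
    conv_lhs => rw [← hMsq, ← hMa]
    ring
  have := ((Fact.out : p.Prime).pow_dvd_iff_le_factorization hI0).1 hdd
  omega

include hZK in
/-- The `p`-complement. -/
theorem Data.exists_pComplement (d : Data Z χ θ e)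
    (hφ : classInner (Char.resFun K χ.1) φ.1 ≠ 0) (p : ℕ) [Fact p.Prime]
    (hp : ¬ p ∣ K.relIndex (Char.inertia K φ.1)) :
    ∃ R : Subgroup (H ⧸ K), R.index = p ^ (Nat.card (H ⧸ K)).factorization p ∧
      ¬ p ∣ Nat.card R := by
  classical
  have hpr : p.Prime := Fact.out
  set I := Char.inertia K φ.1 with hIdef
  have hKI : K ≤ I := Char.irr_le_inertia K φ
  set f := mult hZK θ φ with hfdef
  have hf : f ≠ 0 := (d.classInner_ne_zero_iff hZK φ).1 hφ
  set m := I.index with hmdef
  have hm0 : m ≠ 0 := Subgroup.index_ne_zero_of_finite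
  have hmq : (Nat.card (H ⧸ K)).factorization p = m.factorization p := by
    rw [← Subgroup.index_eq_card, ← Subgroup.relIndex_mul_index hKI,
      ← hmdef, Nat.factorization_mul (show K.relIndex I ≠ 0 from Subgroup.index_ne_zero_of_finite) hm0,
      Finsupp.add_apply,
      Nat.factorization_eq_zero_of_not_dvd hp, zero_add]
  set k := f.factorization p with hk
  -- Sylow of `K/Z`
  set π := QuotientGroup.mk' Z with hπ
  set Kb := K.map π with hKb
  haveI : Kb.Normal := Subgroup.Normal.map inferInstance π (QuotientGroup.mk'_surjective Z)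
  obtain ⟨P⟩ : Nonempty (Sylow p Kb) := inferInstance
  set Sb : Subgroup (H ⧸ Z) := (P : Subgroup Kb).map Kb.subtype with hSb
  set S := Sb.comap π with hS
  haveI := Fintype.ofFinite S
  have hZS : Z ≤ S := fun z hz => by
    show π z ∈ Sb
    rw [show π z = 1 from (QuotientGroup.eq_one_iff z).2 hz]
    exact one_mem _
  have hSK : S ≤ K := fun x hx => by
    obtain ⟨y, hy, hyx⟩ := (Subgroup.map_subtype_le _ hx : π x ∈ Kb)
    have h2 := mul_mem hy (hZK (QuotientGroup.eq.1 hyx))
    rwa [mul_inv_cancel_left] at h2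
  have hrel : ∀ {A : Subgroup H}, Z ≤ A → Z.relIndex A = Nat.card (A.map π) := fun {A} hA => by
    have h1 : Nat.card A = Z.relIndex A * Nat.card Z := card_eq_relIndex_mul hA
    have h2 : Nat.card A = Nat.card (A.map π) * Nat.card Z := by
      conv_lhs => rw [← Subgroup.comap_map_eq_self (f := π) (H := A)
        (by rw [hπ, QuotientGroup.ker_mk']; exact hA)]
      rw [hπ, show Nat.card ((A.map (QuotientGroup.mk' Z)).comap (QuotientGroup.mk' Z)) =
        Nat.card Z * Nat.card (A.map (QuotientGroup.mk' Z)) from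
        (Nat.card_congr (QuotientGroup.preimageMkEquivSubgroupProdSet Z
          (A.map (QuotientGroup.mk' Z) : Set (H ⧸ Z)))).trans (Nat.card_prod _ _), mul_comm]
    exact Nat.eq_of_mul_eq_mul_right Nat.card_pos (h1.symm.trans h2)
  have hSrel : Z.relIndex S = p ^ (2 * k + m.factorization p) := by
    rw [hrel hZS, hS, Subgroup.map_comap_eq_self_of_surjective (QuotientGroup.mk'_surjective Z),
      hSb, Subgroup.card_map_of_injective Kb.subtype_injective, P.card_eq_multiplicity, hKb,
      ← hrel hZK, d.relIndex_eq K hZK hφ, Nat.factorization_mul hm0 (pow_ne_zero _ hf),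
      Nat.factorization_pow, Finsupp.add_apply, Finsupp.smul_apply, smul_eq_mul, add_comm]
  have hSKnd : ¬ p ∣ S.relIndex K := by
    intro hd
    have hmul := Subgroup.relIndex_mul_relIndex Z S K hZS hSK
    rw [hSrel, d.relIndex_eq K hZK hφ] at hmul
    have hd2 : p ^ (2 * k + m.factorization p + 1) ∣ m * f ^ 2 := by
      rw [← hmul, pow_succ]
      exact mul_dvd_mul_left _ hd
    have := (hpr.pow_dvd_iff_le_factorization (mul_ne_zero hm0 (pow_ne_zero _ hf))).1 hd2
    rw [Nat.factorization_mul hm0 (pow_ne_zero _ hf), Nat.factorization_pow, Finsupp.add_apply,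
      Finsupp.smul_apply, smul_eq_mul] at this
    omega
  -- sums over constituents
  have hsum : ∀ η : IrrCharacter S,
      f * ∑ ψ ∈ Char.orbitFinset K φ, pairMult hSK ψ η = S.relIndex K * mult hZS θ η := fun η => by
    rw [← d.sum_mult hZS hSK η, Finset.mul_sum,
      ← Finset.sum_subset (Finset.subset_univ (Char.orbitFinset K φ)) fun ψ _ hψ => by
        rw [Nat.mul_eq_zero]
        exact Or.inl (not_not.1 fun h => hψ (d.mem_orbit_of_mult K hZK hφ h))]
    exact Finset.sum_congr rfl fun ψ hψ => by rw [d.mult_of_mem_orbit K hZK hψ]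
  have hpk : ∀ η : IrrCharacter S, p ^ k ∣ mult hZS θ η := fun η => by
    have h1 : p ^ k ∣ S.relIndex K * mult hZS θ η :=
      hsum η ▸ (Nat.ordProj_dvd f p).mul_right _
    exact (Nat.Coprime.pow_left k (hpr.coprime_iff_not_dvd.2 hSKnd)).dvd_of_dvd_mul_left h1
  have hcount : Nat.card {η : IrrCharacter S // mult hZS θ η ≠ 0} ≤ p ^ m.factorization p := by
    rw [Nat.card_eq_fintype_card, Fintype.card_subtype]
    refine Nat.le_of_mul_le_mul_right (c := p ^ (2 * k)) ?_ (pow_pos hpr.pos _)
    rw [← pow_add, add_comm (m.factorization p), ← hSrel, ← d.sum_sq hZS, ← smul_eq_mul,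
      ← Finset.sum_const]
    refine le_trans (Finset.sum_le_sum fun η hη => ?_)
      (Finset.sum_le_univ_sum_of_nonneg fun _ => Nat.zero_le _)
    rw [mul_comm 2 k, pow_mul]
    exact Nat.pow_le_pow_left (Nat.le_of_dvd (Nat.pos_of_ne_zero (Finset.mem_filter.1 hη).2) (hpk η)) 2
  -- a good constituent
  obtain ⟨η, hη1, hη2⟩ : ∃ η : IrrCharacter S, mult hZS θ η ≠ 0 ∧
      ¬ p ∣ ∑ ψ ∈ Char.orbitFinset K φ, pairMult hSK ψ η := by
    by_contra hne
    push Not at hne
    have hall : ∀ η : IrrCharacter S, p ^ (k + 1) ∣ mult hZS θ η := fun η => by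
      by_cases h0 : mult hZS θ η = 0
      · rw [h0]
        exact dvd_zero _
      · refine (Nat.Coprime.pow_left _ (hpr.coprime_iff_not_dvd.2 hSKnd)).dvd_of_dvd_mul_left ?_
        rw [← hsum η, pow_succ]
        exact mul_dvd_mul (Nat.ordProj_dvd f p) (hne η h0)
    have : p ^ (k + 1) ∣ f := by
      rw [hfdef, mult_eq_sum hZS hSK φ]
      exact Finset.dvd_sum fun η _ => (hall η).mul_left _
    have := (hpr.pow_dvd_iff_le_factorization hf).1 this
    omega
  -- the stabiliser
  set Nn : Subgroup H := Subgroup.normalizer (S : Set H) with hNn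
  let ηe : H → ℂ := extendByZero S η.1
  let T : Subgroup H :=
    { carrier := {g | g ∈ Nn ∧ ∀ y, ηe (g * y * g⁻¹) = ηe y}
      one_mem' := ⟨one_mem _, fun y => by rw [one_mul, inv_one, mul_one]⟩
      mul_mem' := fun {a b} ha hb => ⟨mul_mem ha.1 hb.1, fun y => by
        rw [← hb.2 y, ← ha.2 (b * y * b⁻¹)]
        simp only [mul_assoc, mul_inv_rev]⟩
      inv_mem' := fun {a} ha => ⟨inv_mem ha.1, fun y => by
        rw [← ha.2 (a⁻¹ * y * a⁻¹⁻¹)]
        simp only [mul_assoc, inv_inv, mul_inv_cancel_left, mul_inv_cancel, mul_one]⟩ }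
  set R : Subgroup (H ⧸ K) := T.map (QuotientGroup.mk' K) with hR
  have hfratt : ∀ q : H ⧸ K, ∃ n ∈ Nn, (n : H ⧸ K) = q := fun q => by
    obtain ⟨g, rfl⟩ := QuotientGroup.mk_surjective q
    have h : π g ∈ Subgroup.normalizer (Sb : Set (H ⧸ Z)) ⊔ Kb := by
      have h := Sylow.normalizer_sup_eq_top (N := Kb) P
      rw [← hSb] at h
      rw [h]
      exact Subgroup.mem_top _
    obtain ⟨nb, hnb, kb, hkb, hg⟩ := Subgroup.mem_sup_of_normal_right.1 h
    obtain ⟨k0, hk0, rfl⟩ := hkb
    refine ⟨g * k0⁻¹, Subgroup.mem_normalizer_iff.2 fun y => ?_, ?_⟩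
    · show π y ∈ Sb ↔ π (g * k0⁻¹ * y * (g * k0⁻¹)⁻¹) ∈ Sb
      rw [map_mul, map_mul, map_inv, map_mul, map_inv, ← hg, mul_inv_cancel_right]
      exact Subgroup.mem_normalizer_iff.1 hnb _
    · rw [QuotientGroup.mk_mul, QuotientGroup.mk_inv, (QuotientGroup.eq_one_iff k0).2 hk0, inv_one,
        mul_one]
  have hirr : ∀ n ∈ Nn, IsIrrCharacter S (fun s : S => ηe (n * s * n⁻¹)) := fun n hn => by
    let c : S →* S :=
      { toFun := fun s => ⟨n * s * n⁻¹, (Subgroup.mem_normalizer_iff.1 hn _).1 s.2⟩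
        map_one' := Subtype.ext (by simp)
        map_mul' := fun a b => Subtype.ext (by simp [mul_assoc]) }
    have hc : Function.Surjective c := fun s =>
      ⟨⟨n⁻¹ * s * n, (Subgroup.mem_normalizer_iff.1 hn _).2 (by
        simp only [mul_assoc, mul_inv_cancel_left, mul_inv_cancel, mul_one]
        exact s.2)⟩, Subtype.ext (by simp [c, mul_assoc])⟩
    rw [show (fun s : S => ηe (n * s * n⁻¹)) = fun s => η.1 (c s) from
      funext fun s => Char.extendByZero_coe S η.1 (c s)]
    exact Char.IsIrrCharacter.comp_surjective η.2 c hc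
  have hindex : R.index ≤ p ^ m.factorization p := by
    refine le_trans ?_ hcount
    choose n hn hnq using fun c : (H ⧸ K) ⧸ R => hfratt c.out⁻¹
    refine (Subgroup.index_eq_card R).trans_le (Nat.card_le_card_of_injective
      (fun c => ⟨⟨_, hirr _ (hn c)⟩, ?_⟩) fun c1 c2 hc => ?_)
    · rw [mult_eq_of_res hZS (b := mult hZS θ η)]
      · exact hη1
      · intro z
        show ηe (n c * (z : H) * (n c)⁻¹) = _
        rw [show n c * (z : H) * (n c)⁻¹ = ((Subgroup.inclusion hZS (MulAut.conjNormal (n c) z) : S) : H)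
          from (MulAut.conjNormal_apply _ _).symm,
          show ηe _ = η.1 (Subgroup.inclusion hZS (MulAut.conjNormal (n c) z)) from
            Char.extendByZero_coe S η.1 _, d.res_of_mult hZS hη1]
        congr 1
        exact congrFun (d.conjFun_eq (n c)) z
    · have hfun := congrArg (fun x : {η : IrrCharacter S // mult hZS θ η ≠ 0} => x.1.1) hc
      have hmem : (n c2)⁻¹⁻¹ * ((n c1)⁻¹) ∈ T := by
        rw [inv_inv]
        refine ⟨mul_mem (hn c2) (inv_mem (hn c1)), fun y => ?_⟩
        by_cases hy : y ∈ S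
        · have hy' : (n c1)⁻¹ * y * (n c1)⁻¹⁻¹ ∈ S :=
            (Subgroup.mem_normalizer_iff.1 (inv_mem (hn c1)) y).1 hy
          have h := congrFun hfun ⟨_, hy'⟩
          simp only [inv_inv, mul_assoc, mul_inv_cancel_left, mul_inv_cancel, mul_one] at h
          simp only [mul_inv_rev, inv_inv, mul_assoc]
          exact h.symm
        · have hN := mul_mem (hn c2) (inv_mem (hn c1))
          show extendByZero S η.1 _ = extendByZero S η.1 _
          rw [Char.extendByZero_of_notMem S η.1 hy, Char.extendByZero_of_notMem S η.1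
            (fun h => hy ((Subgroup.mem_normalizer_iff.1 hN y).2 h))]
      have hR' : (c2.out : H ⧸ K)⁻¹ * c1.out ∈ R := by
        refine ⟨_, hmem, ?_⟩
        rw [inv_inv, map_mul, map_inv, QuotientGroup.mk'_apply, QuotientGroup.mk'_apply, hnq, hnq,
          inv_inv]
      have h := QuotientGroup.eq.2 hR'
      rw [QuotientGroup.out_eq', QuotientGroup.out_eq'] at h
      exact h.symm
  have hR0 : ¬ p ∣ Nat.card R := by
    intro hd
    obtain ⟨⟨r, hr⟩, hord⟩ := exists_prime_orderOf_dvd_card' p hd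
    obtain ⟨x, hxT, rfl⟩ := hr
    rw [← Subgroup.orderOf_coe] at hord
    have hord' : orderOf ((x : H) : H ⧸ K) = p := hord
    refine hη2 (dvd_sum_of_perm _ (fun ψ => Char.conjChar K ψ x) (fun ψ hψ => ?_) (fun ψ _ => ?_)
      (fun ψ hψ => ?_) _ (fun ψ _ => ?_))
    · obtain ⟨g, rfl⟩ := (Char.mem_orbitFinset K).1 hψ
      exact (Char.mem_orbitFinset K).2 ⟨g * x, Subtype.ext (Char.conjFun_mul K φ.1 g x).symm⟩
    · have hit : ∀ j, ((fun ψ => Char.conjChar K ψ x)^[j] ψ).1 = Char.conjFun K ψ.1 (x ^ j) := fun j => by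
        induction j with
        | zero => rw [pow_zero, Char.conjFun_one]; rfl
        | succ i ih =>
          rw [Function.iterate_succ_apply', pow_succ, Char.conjFun_mul, ← ih]
          rfl
      refine Subtype.ext ((hit p).trans (Char.irr_le_inertia K ψ ?_))
      rw [← QuotientGroup.eq_one_iff, QuotientGroup.mk_pow, ← hord']
      exact pow_orderOf_eq_one _
    · obtain ⟨g, rfl⟩ := (Char.mem_orbitFinset K).1 hψ
      intro heq
      have hy : g * x * g⁻¹ ∈ I := by
        show Char.conjFun K φ.1 (g * x * g⁻¹) = φ.1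
        have h1 : Char.conjFun K φ.1 (g * x) = Char.conjFun K φ.1 g := by
          rw [Char.conjFun_mul]
          exact congrArg Subtype.val heq
        rw [Char.conjFun_mul, h1, ← Char.conjFun_mul, mul_inv_cancel, Char.conjFun_one]
      have hyK : ((g * x * g⁻¹ : H) : H ⧸ K) ^ p = 1 ∧ ((g * x * g⁻¹ : H) : H ⧸ K) ≠ 1 := by
        rw [QuotientGroup.mk_mul, QuotientGroup.mk_mul, QuotientGroup.mk_inv, conj_pow,
          show ((x : H) : H ⧸ K) ^ p = 1 from hord' ▸ pow_orderOf_eq_one _, mul_one, mul_inv_cancel]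
        refine ⟨rfl, fun h => hpr.ne_one ?_⟩
        rw [← hord', conj_eq_one_iff.1 h, orderOf_one]
      haveI : (K.subgroupOf I).Normal := inferInstance
      have ho : orderOf ((⟨_, hy⟩ : I) : I ⧸ K.subgroupOf I) = p := by
        refine orderOf_eq_prime ?_ ?_
        · rw [← QuotientGroup.mk_pow, QuotientGroup.eq_one_iff, Subgroup.mem_subgroupOf,
            SubmonoidClass.coe_pow, ← QuotientGroup.eq_one_iff, QuotientGroup.mk_pow]
          exact hyK.1
        · rw [Ne, QuotientGroup.eq_one_iff, Subgroup.mem_subgroupOf, ← QuotientGroup.eq_one_iff]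
          exact hyK.2
      refine hp ?_
      rw [Subgroup.relIndex, Subgroup.index_eq_card, ← ho]
      exact orderOf_dvd_natCard _
    · have h1 := pairMult_spec hSK (Char.conjChar K ψ x) η
      have h2 := pairMult_spec hSK ψ η
      suffices h : (pairMult hSK (Char.conjChar K ψ x) η : ℂ) = pairMult hSK ψ η by exact_mod_cast h
      rw [← h1, ← h2]
      simp only [classInner]
      congr 1
      refine Fintype.sum_equiv
        ((MulAut.conj x).toEquiv.subtypeEquiv fun y => Subgroup.mem_normalizer_iff.1 hxT.1 y) _ _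
        fun y => ?_
      congr 2
      rw [← Char.extendByZero_coe S η.1 y, ← Char.extendByZero_coe S η.1]
      exact (hxT.2 y).symm
  refine ⟨R, le_antisymm (hmq ▸ hindex) (Nat.le_of_dvd
    (Nat.pos_of_ne_zero Subgroup.index_ne_zero_of_finite) ?_), hR0⟩
  have hd : p ^ (Nat.card (H ⧸ K)).factorization p ∣ Nat.card R * R.index := by
    rw [Subgroup.card_mul_index]
    exact Nat.ordProj_dvd _ _
  exact (Nat.Coprime.pow_left _ (hpr.coprime_iff_not_dvd.2 hR0)).dvd_of_dvd_mul_left hd

end Normal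

end Cfsg.Agent.FullyRam
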